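import Cfsg.Agent.H813.SpC.Blk
import Cfsg.Agent.H63.AO.Orth

/-!
# S4822, tasks AO4, AO5: `AbOut` for the orthogonal groups of even dimension (helper813, helper63)
-/

set_option autoImplicit false

namespace Cfsg.Agent.H813.SpC

open Cfsg.Agent.H508.KB

universe u

theorem coreAll {p : ℕ} (hp : p.Prime) (hp2 : p ≠ 2) : Cfsg.Agent.H63.AO.CoreAll p := by
  intro ι _ _ F _ _ Q h2 hpF hQ P hPO hP hP1
  exact exists_comm h2 hQ hp hp2 hpF P hP hPO hP1

variable {p : ℕ} [hp : Fact p.Prime] {S : Type u} [Group S] [Finite S]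

theorem ab_omegaPlus {r : ℕ} [Fact r.Prime] (hrp : r ≠ p) (h5 : 5 ≤ p) {F : Type} [Field F] [Fintype F] [CharP F r]
    {m : ℕ} (hm : 5 ≤ m) (e : Nonempty (S ≃* POmega F (quadFormPlus m F))) : AbOut p S :=
  Cfsg.Agent.H63.AO.ab_omegaPlus_of (coreAll hp.out (by omega)) hrp hm e

theorem ab_omegaMinus {r : ℕ} [Fact r.Prime] (hrp : r ≠ p) (h5 : 5 ≤ p) (h : IsPOmegaMinusChar r S) :
    AbOut p S :=
  Cfsg.Agent.H63.AO.ab_omegaMinus_of (coreAll hp.out (by omega)) hrp h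

end Cfsg.Agent.H813.SpC
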