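import Mathlib
import Cfsg.Agent.H899.O7.Zass

/-!
# Isometries with nontrivial spinor sign from adjoint pairs (helper813)

For a nondegenerate quadratic space of even dimension over a finite field of odd characteristic and an adjoint
pair of commuting endomorphisms `b, b'` with `det b` not a square and `det (b + b')` a nonzero square, the
isometry `b b'⁻¹` has determinant one and spinor sign `-1` (`exists_el`).
-/

set_option autoImplicit false

namespace Cfsg.Agent.H813.SpC

open QuadraticMap Module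
open Cfsg.Agent.LieClassical.OrthCore Cfsg.Agent.H160.QSpin Cfsg.Agent.H160.QSplit

variable {F V : Type*} [Field F] [AddCommGroup V] [Module F V]

/-- adjoint pairs -/
def Adj (Q : QuadraticForm F V) (b b' : Module.End F V) : Prop := ∀ x y, polar Q (b x) y = polar Q x (b' y)

namespace Adj

variable {Q : QuadraticForm F V} {b b' c c' : Module.End F V}

theorem symm (h : Adj Q b b') : Adj Q b' b := fun x y => by
  rw [polar_comm Q, ← h, polar_comm Q]

theorem add (h : Adj Q b b') (k : Adj Q c c') : Adj Q (b + c) (b' + c') := fun x y => by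
  rw [LinearMap.add_apply, LinearMap.add_apply, polar_add_left, polar_add_right, h, k]

theorem neg (h : Adj Q b b') : Adj Q (-b) (-b') := fun x y => by
  rw [LinearMap.neg_apply, LinearMap.neg_apply, polar_neg_left, polar_neg_right, h]

theorem mul (h : Adj Q b b') (k : Adj Q c c') : Adj Q (b * c) (c' * b') := fun x y => by
  rw [Module.End.mul_apply, Module.End.mul_apply, h, k]

theorem one : Adj Q 1 1 := fun _ _ => rfl

theorem smul (a : F) (h : Adj Q b b') : Adj Q (a • b) (a • b') := fun x y => by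
  rw [LinearMap.smul_apply, LinearMap.smul_apply, polar_smul_left, polar_smul_right, h]

theorem algebraMap (a : F) : Adj Q (algebraMap F (Module.End F V) a) (algebraMap F (Module.End F V) a) := by
  rw [Algebra.algebraMap_eq_smul_one]
  exact one.smul a

theorem unique (hQ : Nondeg Q) (h : Adj Q b b') (k : Adj Q b c') : b' = c' := by
  ext y
  rw [← sub_eq_zero]
  apply hQ
  intro x
  rw [polar_comm Q, polar_sub_right, ← h, ← k, sub_self]

theorem iso {g : V ≃ₗ[F] V} (hg : g ∈ O Q) : Adj Q (en g) (en g⁻¹) := fun x y => polar_inv hg x y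

theorem det [FiniteDimensional F V] (hQ : Nondeg Q) (h : Adj Q b b') : LinearMap.det b' = LinearMap.det b :=
  (det_adj hQ h).symm

/-- an isometry commuting with `b` commutes with its adjoint -/
theorem comm (hQ : Nondeg Q) (h : Adj Q b b') {g : V ≃ₗ[F] V} (hg : g ∈ O Q) (hc : en g * b = b * en g) :
    en g * b' = b' * en g := by
  have h1 : en g⁻¹ * b = b * en g⁻¹ := by
    have h2 : en g⁻¹ * (en g * b) * en g⁻¹ = en g⁻¹ * (b * en g) * en g⁻¹ := by rw [hc]
    rw [← mul_assoc, en_inv_mul, one_mul] at h2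
    rw [h2, mul_assoc, mul_assoc, en_mul_inv, mul_one]
  have h3 := (iso ((O Q).inv_mem hg)).mul h
  have h4 := h.mul (iso ((O Q).inv_mem hg))
  rw [inv_inv] at h3 h4
  rw [h1] at h3
  exact unique hQ h4 h3

end Adj

/-- existence of adjoints -/
theorem exists_adj [FiniteDimensional F V] {Q : QuadraticForm F V} (hQ : Nondeg Q) (b : Module.End F V) :
    ∃ b', Adj Q b b' := by
  refine ⟨LinearMap.BilinForm.leftAdjointOfNondegenerate (polarBilin Q) (Cfsg.Agent.H160.QDisc.nondeg_bilin hQ) b, ?_⟩
  apply Adj.symm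
  intro x y
  exact LinearMap.BilinForm.isAdjointPairLeftAdjointOfNondegenerate (polarBilin Q)
    (Cfsg.Agent.H160.QDisc.nondeg_bilin hQ) b x y

theorem isSquare_of_sq_mul {c d : F} (hd : d ≠ 0) (h : IsSquare (c * d ^ 2)) : IsSquare c := by
  obtain ⟨r, hr⟩ := h
  refine ⟨r / d, ?_⟩
  field_simp
  linear_combination hr

/-- **Isometries with nontrivial spinor sign.** -/
theorem exists_el [Finite F] [Finite V] (h2 : (2 : F) ≠ 0) {Q : QuadraticForm F V} (hQ : Nondeg Q)
    (hev : Even (finrank F V)) {b b' : Module.End F V} (hA : Adj Q b b') (hc : b * b' = b' * b)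
    (hb : ¬ IsSquare (LinearMap.det b)) (hs : IsSquare (LinearMap.det (b + b')))
    (hs0 : LinearMap.det (b + b') ≠ 0) :
    ∃ z : V ≃ₗ[F] V, El Q (-1) z ∧ ∀ g ∈ O Q, en g * b = b * en g → g * z = z * g := by
  classical
  let _ := Fintype.ofFinite F
  have hb0 : LinearMap.det b ≠ 0 := fun h => hb (h ▸ IsSquare.zero)
  have hb0' : LinearMap.det b' ≠ 0 := by rw [hA.det hQ]; exact hb0
  let β : V ≃ₗ[F] V := LinearMap.equivOfDetNeZero b hb0
  let β' : V ≃ₗ[F] V := LinearMap.equivOfDetNeZero b' hb0'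
  have hβ : en β = b := rfl
  have hβ' : en β' = b' := rfl
  have hcc : β * β' = β' * β := en_inj (by rw [en_mul, en_mul, hβ, hβ', hc])
  have hzO : β * β'⁻¹ ∈ O Q := by
    apply Cfsg.Agent.H160.QDisc.isIso_of_polar h2
    intro x y
    have e1 : (β * β'⁻¹) y = β (β'⁻¹ y) := rfl
    have e2 : (β * β'⁻¹) x = β (β'⁻¹ x) := rfl
    have e3 : β' (β (β'⁻¹ y)) = β y := by
      have : β' * (β * β'⁻¹) = β := by rw [← mul_assoc, ← hcc, mul_assoc, mul_inv_cancel, mul_one]
      exact LinearEquiv.congr_fun this y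
    have e4 : β' (β'⁻¹ x) = x := β'.apply_symm_apply x
    have e5 : polar Q (β (β'⁻¹ x)) (β (β'⁻¹ y)) = polar Q (β'⁻¹ x) (β' (β (β'⁻¹ y))) := hA _ _
    have e6 : polar Q (β'⁻¹ x) (β y) = polar Q (β' (β'⁻¹ x)) y := (hA.symm _ _).symm
    rw [e1, e2, e5, e3, e6, e4]
  have hdz : LinearEquiv.det (β * β'⁻¹) = 1 := by
    rw [map_mul, map_inv, mul_inv_eq_one]
    apply Units.ext
    rw [LinearEquiv.coe_det, LinearEquiv.coe_det]
    exact (hA.det hQ).symm
  have h1z : (1 + en (β * β'⁻¹)) * b' = b + b' := by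
    have e1 : en β'⁻¹ * b' = 1 := en_inv_mul β'
    rw [add_mul, one_mul, en_mul, mul_assoc, e1, mul_one, add_comm, hβ]
  have hdet : LinearMap.det (1 + en (β * β'⁻¹)) * LinearMap.det b = LinearMap.det (b + b') := by
    rw [← h1z, map_mul, hA.det hQ]
  have hne : LinearMap.det (1 + en (β * β'⁻¹)) ≠ 0 := fun h => hs0 (by rw [← hdet, h, zero_mul])
  refine ⟨β * β'⁻¹, ⟨hzO, hdz, ?_⟩, ?_⟩
  · have h3 := Cfsg.Agent.H899.O7.Zass.zass h2 hQ hev (finrank F V) hzO hdz hne (by omega)
    have h4 : quadraticChar F (LinearMap.det (1 + en (β * β'⁻¹))) = -1 := by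
      rw [quadraticChar_neg_one_iff_not_isSquare]
      rintro ⟨r, hr⟩
      obtain ⟨t, ht⟩ := hs
      apply hb
      have hr0 : r ≠ 0 := fun h => hne (by rw [hr, h, zero_mul])
      refine ⟨t / r, ?_⟩
      field_simp
      linear_combination ht + hdet - LinearMap.det b * hr
    rw [h4] at h3
    exact Units.ext h3
  · intro g hg hgb
    have e1 : g * β = β * g := en_inj (by rw [en_mul, en_mul]; exact hgb)
    have e2 : g * β' = β' * g := en_inj (by rw [en_mul, en_mul]; exact hA.comm hQ hg hgb)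
    have e3 : g * β'⁻¹ = β'⁻¹ * g := by
      rw [mul_inv_eq_iff_eq_mul, mul_assoc, e2, inv_mul_cancel_left]
    rw [← mul_assoc, e1, mul_assoc, e3, mul_assoc]

/-- a nondegenerate space with an isometry of odd order without fixed vectors has even dimension -/
theorem even_finrank [FiniteDimensional F V] (h2 : (2 : F) ≠ 0) {Q : QuadraticForm F V} (hQ : Nondeg Q)
    {x : V ≃ₗ[F] V} (hx : x ∈ O Q) {n : ℕ} (hn : Odd n) (hxn : x ^ n = 1) (hfix : ∀ v, x v = v → v = 0) :
    Even (finrank F V) := by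
  have hA : Adj Q (en x + -en x⁻¹) (en x⁻¹ + -en x) := by
    have := (Adj.iso hx).add (Adj.iso ((O Q).inv_mem hx)).neg
    rwa [inv_inv] at this
  have h0 : LinearMap.det (en x + -en x⁻¹) ≠ 0 := by
    apply det_ne_zero_of_inj
    intro v hv
    have e1 : x v = x⁻¹ v := by
      rw [LinearMap.add_apply, LinearMap.neg_apply, ← sub_eq_add_neg, sub_eq_zero] at hv
      exact hv
    have e2 : (x ^ 2) v = v := by
      rw [pow_two]
      show x (x v) = v
      rw [e1]
      exact x.apply_symm_apply v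
    have e3 : ∀ k : ℕ, ((x ^ 2) ^ k) v = v := by
      intro k
      induction k with
      | zero => rfl
      | succ k ih =>
        rw [pow_succ]
        show ((x ^ 2) ^ k) ((x ^ 2) v) = v
        rw [e2, ih]
    obtain ⟨k, hk⟩ := hn
    apply hfix
    have e4 : (x ^ 2) ^ k * x = 1 := by rw [← pow_mul, ← pow_succ, ← hk, hxn]
    have e5 : ((x ^ 2) ^ k) (x v) = v := LinearEquiv.congr_fun e4 v
    have e6 : ((x ^ 2) ^ k) v = v := e3 k
    exact ((x ^ 2) ^ k).injective (e5.trans e6.symm)
  have h1 := hA.det hQ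
  have h3 : en x⁻¹ + -en x = (-1 : F) • (en x + -en x⁻¹) := by
    rw [neg_one_smul]; abel
  rw [h3, LinearMap.det_smul] at h1
  by_contra hodd
  rw [Nat.not_even_iff_odd] at hodd
  rw [hodd.neg_one_pow] at h1
  apply h0
  have h4 : (2 : F) * LinearMap.det (en x + -en x⁻¹) = 0 := by linear_combination -h1
  exact (mul_eq_zero.1 h4).resolve_left h2

end Cfsg.Agent.H813.SpC
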