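import Mathlib
import Cfsg.Agent.H813.SpC.Adj

/-!
# The field generated by an irreducible endomorphism (helper813)
-/

set_option autoImplicit false

namespace Cfsg.Agent.H813.SpC

open Module

section Gen

variable {F L : Type*} [Field F] [Field L] [Algebra F L] [Finite L]

/-- a generator of the multiplicative group has nonsquare norm -/
theorem exists_gen (h2 : (2 : F) ≠ 0) :
    ∃ b : L, ¬ IsSquare (Algebra.norm F b) ∧ ∀ k : L, k ≠ 0 → ∃ i : ℕ, b ^ i = k := by
  have hF : Finite F := Finite.of_injective (algebraMap F L) (algebraMap F L).injective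
  obtain ⟨u, hu⟩ := IsCyclic.exists_generator (α := Lˣ)
  have hgen : ∀ k : L, k ≠ 0 → ∃ i : ℕ, (u : L) ^ i = k := by
    intro k hk
    have h1 := hu (Units.mk0 k hk)
    rw [← mem_powers_iff_mem_zpowers] at h1
    obtain ⟨i, hi⟩ := h1
    refine ⟨i, ?_⟩
    have := congrArg Units.val hi
    simpa using this
  refine ⟨u, ?_, hgen⟩
  have hc : ringChar F ≠ 2 := fun h => h2 (by
    have := ringChar.Nat.cast_ringChar (R := F)
    rw [h] at this
    exact_mod_cast this)
  obtain ⟨d, hd⟩ := FiniteField.exists_nonsquare hc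
  intro hsq
  apply hd
  obtain ⟨k, rfl⟩ := FiniteField.norm_surjective F L d
  have hk : k ≠ 0 := by
    rintro rfl
    apply hd
    rw [Algebra.norm_zero]
    exact IsSquare.zero
  obtain ⟨i, rfl⟩ := hgen k hk
  rw [map_pow]
  exact hsq.pow i

omit [Finite L] in
/-- elements fixed by an involutory automorphism are squares -/
theorem isSquare_of_fixed [Finite L] (h2 : (2 : L) ≠ 0) (τ : L →+* L) {s : L} (hs : s ≠ 0)
    (hss : τ s = -s) {c : L} (hc : τ c = c) : IsSquare c := by
  classical
  let K₀ : Subfield L := RingHom.eqLocusField τ (RingHom.id L)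
  let _ : Fintype K₀ := Fintype.ofFinite K₀
  have hsK : s ^ 2 ∈ K₀ := by
    show τ (s ^ 2) = s ^ 2
    rw [map_pow, hss, neg_sq]
  have hcK : c ∈ K₀ := hc
  have hns : ¬ IsSquare (⟨s ^ 2, hsK⟩ : K₀) := by
    rintro ⟨t, ht⟩
    have h1 : s ^ 2 = (t : L) ^ 2 := by
      have := congrArg Subtype.val ht
      rw [pow_two (t : L)]
      exact this
    have ht2 : τ (t : L) = t := t.2
    have h3 : τ s = s := by
      rcases sq_eq_sq_iff_eq_or_eq_neg.1 h1 with h | h
      · rw [h, ht2]
      · rw [h, map_neg, ht2]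
    rw [hss] at h3
    have h4 : 2 * s = 0 := by linear_combination -h3
    exact (mul_ne_zero h2 hs) h4
  by_cases h : IsSquare (⟨c, hcK⟩ : K₀)
  · obtain ⟨t, ht⟩ := h
    exact ⟨t, congrArg Subtype.val ht⟩
  · have h5 := quadraticChar_neg_one_iff_not_isSquare.2 h
    have h6 := quadraticChar_neg_one_iff_not_isSquare.2 hns
    have h7 : quadraticChar K₀ (⟨c, hcK⟩ * ⟨s ^ 2, hsK⟩) = 1 := by
      rw [map_mul, h5, h6]
      norm_num
    have h8 : (⟨c, hcK⟩ * ⟨s ^ 2, hsK⟩ : K₀) ≠ 0 := by
      intro h0
      rw [h0, quadraticChar_zero] at h7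
      exact zero_ne_one h7
    obtain ⟨t, ht⟩ := (quadraticChar_one_iff_isSquare h8).1 h7
    have h9 : c * s ^ 2 = (t : L) * t := congrArg Subtype.val ht
    refine ⟨t / s, ?_⟩
    field_simp
    linear_combination h9

end Gen

section Field

universe u v

variable {F : Type u} {V : Type v} [Field F] [AddCommGroup V] [Module F V]

open scoped IsMulCommutative in
/-- **The field generated by an irreducible endomorphism.** -/
theorem exists_field [Finite V] [Nontrivial V] (x : Module.End F V)
    (hirr : ∀ W : Submodule F V, (∀ w ∈ W, x w ∈ W) → W = ⊥ ∨ W = ⊤) :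
    ∃ (L : Type v) (_ : Field L) (_ : Algebra F L) (_ : Finite L) (φ : L →ₐ[F] Module.End F V),
      φ.range = Algebra.adjoin F {x} ∧ ∀ k, LinearMap.det (φ k) = Algebra.norm F k := by
  classical
  let K : Subalgebra F (Module.End F V) := Algebra.adjoin F {x}
  have hxK : x ∈ K := Algebra.self_mem_adjoin_singleton F x
  have hcomm : ∀ k ∈ K, x * k = k * x := fun k hk =>
    congrArg Subtype.val (mul_comm (⟨x, hxK⟩ : K) ⟨k, hk⟩)
  have hinj : ∀ k ∈ K, k ≠ 0 → ∀ v, k v = 0 → v = 0 := by
    intro k hk hk0
    rcases hirr (LinearMap.ker k) (by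
      intro w hw
      rw [LinearMap.mem_ker] at hw ⊢
      have : k (x w) = x (k w) := (LinearMap.congr_fun (hcomm k hk) w).symm
      rw [this, hw, map_zero]) with h | h
    · intro v hv
      have : v ∈ LinearMap.ker k := hv
      rw [h] at this
      exact this
    · exact absurd (LinearMap.ker_eq_top.1 h) hk0
  have hfin : Finite K := Finite.of_injective (fun k : K => fun v : V => (k : Module.End F V) v) (by
    intro a b hab
    apply Subtype.ext
    ext v
    exact congrFun hab v)
  have hdom : IsDomain K := by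
    have h1 : NoZeroDivisors K := ⟨by
      intro a b hab
      by_contra hcon
      push Not at hcon
      obtain ⟨ha, hb⟩ := hcon
      apply hb
      apply Subtype.ext
      ext v
      apply hinj a a.2 (fun h => ha (Subtype.ext h))
      exact LinearMap.congr_fun (congrArg Subtype.val hab) v⟩
    exact IsDomain.mk
  have hF : IsField K := Finite.isField_of_domain K
  obtain ⟨w, hw⟩ := exists_ne (0 : V)
  let e₀ : K →ₗ[F] V :=
    { toFun := fun k => (k : Module.End F V) w
      map_add' := fun _ _ => rfl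
      map_smul' := fun _ _ => rfl }
  have he₀ : Function.Bijective e₀ := by
    constructor
    · rw [injective_iff_map_eq_zero]
      intro k hk
      by_contra hk0
      exact hw (hinj k k.2 (fun h => hk0 (Subtype.ext h)) w hk)
    · rw [← LinearMap.range_eq_top]
      rcases hirr (LinearMap.range e₀) (by
        rintro _ ⟨k, rfl⟩
        exact ⟨⟨x, hxK⟩ * k, rfl⟩) with h | h
      · exfalso
        apply hw
        have : w ∈ LinearMap.range e₀ := ⟨1, rfl⟩
        rw [h] at this
        exact this
      · exact h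
  let e : K ≃ₗ[F] V := LinearEquiv.ofBijective e₀ he₀
  refine ⟨K, hF.toField, K.algebra, hfin, K.val, ?_, ?_⟩
  · exact K.range_val
  · intro k
    have h1 : LinearMap.det ((e : K →ₗ[F] V) ∘ₗ (Algebra.lmul F K k) ∘ₗ (e.symm : V →ₗ[F] K)) =
      LinearMap.det (Algebra.lmul F K k) := LinearMap.det_conj _ _
    have h2 : (e : K →ₗ[F] V) ∘ₗ (Algebra.lmul F K k) ∘ₗ (e.symm : V →ₗ[F] K) = (k : Module.End F V) := by
      ext v
      obtain ⟨m, rfl⟩ := e.surjective v
      show e (k * e.symm (e m)) = (k : Module.End F V) (e m)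
      rw [LinearEquiv.symm_apply_apply]
      rfl
    rw [h2] at h1
    exact h1

end Field

end Cfsg.Agent.H813.SpC
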