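import Mathlib
import Cfsg.Agent.H813.SpC.Fld

/-!
# Irreducible isometries of odd order commute with isometries of spinor sign `-1` (helper813)
-/

set_option autoImplicit false

namespace Cfsg.Agent.H813.SpC

open QuadraticMap Module
open Cfsg.Agent.LieClassical.OrthCore Cfsg.Agent.H160.QSpin Cfsg.Agent.H160.QSplit

variable {F V : Type*} [Field F] [AddCommGroup V] [Module F V]

theorem inv_mem_adjoin {x : V ≃ₗ[F] V} {n : ℕ} (hn : Odd n) (hxn : x ^ n = 1) :
    en x⁻¹ ∈ Algebra.adjoin F {en x} := by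
  obtain ⟨k, hk⟩ := hn
  have h1 : x⁻¹ = x ^ (2 * k) := by
    rw [inv_eq_iff_mul_eq_one, ← pow_succ', ← hk, hxn]
  rw [h1, en_pow]
  exact pow_mem (Algebra.self_mem_adjoin_singleton F (en x)) _

/-- adjoints of elements of the algebra generated by an isometry of odd order -/
theorem exists_adj_mem {Q : QuadraticForm F V} {x : V ≃ₗ[F] V} (hx : x ∈ O Q) {n : ℕ} (hn : Odd n)
    (hxn : x ^ n = 1) {k : Module.End F V} (hk : k ∈ Algebra.adjoin F {en x}) :
    ∃ k' ∈ Algebra.adjoin F {en x}, Adj Q k k' := by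
  induction hk using Algebra.adjoin_induction with
  | mem y hy =>
    rw [Set.mem_singleton_iff] at hy
    subst hy
    exact ⟨en x⁻¹, inv_mem_adjoin hn hxn, Adj.iso hx⟩
  | algebraMap r => exact ⟨_, Subalgebra.algebraMap_mem _ r, Adj.algebraMap r⟩
  | add a b _ _ iha ihb =>
    obtain ⟨a', ha', ha⟩ := iha
    obtain ⟨b', hb', hb⟩ := ihb
    exact ⟨a' + b', add_mem ha' hb', ha.add hb⟩
  | mul a b _ _ iha ihb =>
    obtain ⟨a', ha', ha⟩ := iha
    obtain ⟨b', hb', hb⟩ := ihb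
    exact ⟨b' * a', mul_mem hb' ha', ha.mul hb⟩

theorem no_fix {x : V ≃ₗ[F] V} (hx1 : x ≠ 1)
    (hirr : ∀ W : Submodule F V, (∀ w ∈ W, x w ∈ W) → W = ⊥ ∨ W = ⊤) : ∀ v, x v = v → v = 0 := by
  rcases hirr (LinearMap.ker (en x - 1)) (by
    intro w hw
    rw [LinearMap.mem_ker, LinearMap.sub_apply, sub_eq_zero] at hw ⊢
    have h1 : x w = w := hw
    show x (x w) = x w
    rw [h1, h1]) with h | h
  · intro v hv
    have h1 : v ∈ LinearMap.ker (en x - 1) := by
      rw [LinearMap.mem_ker, LinearMap.sub_apply, sub_eq_zero]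
      exact hv
    rw [h] at h1
    exact h1
  · exfalso
    apply hx1
    ext v
    have h1 : v ∈ LinearMap.ker (en x - 1) := by rw [h]; trivial
    rw [LinearMap.mem_ker, LinearMap.sub_apply, sub_eq_zero] at h1
    exact h1

/-- **Irreducible isometries of odd order.** -/
theorem caseA [Finite F] [Finite V] (h2 : (2 : F) ≠ 0) {Q : QuadraticForm F V} (hQ : Nondeg Q)
    {x : V ≃ₗ[F] V} (hx : x ∈ O Q) {n : ℕ} (hn : Odd n) (hxn : x ^ n = 1) (hx1 : x ≠ 1)
    (hirr : ∀ W : Submodule F V, (∀ w ∈ W, x w ∈ W) → W = ⊥ ∨ W = ⊤) :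
    ∃ z : V ≃ₗ[F] V, El Q (-1) z ∧ x * z = z * x := by
  have hnt : Nontrivial V := by
    by_contra hcon
    rw [not_nontrivial_iff_subsingleton] at hcon
    exact hx1 (LinearEquiv.ext fun v => Subsingleton.elim _ _)
  have hev : Even (finrank F V) := even_finrank h2 hQ hx hn hxn (no_fix hx1 hirr)
  obtain ⟨L, _, _, _, φ, hφ, hnorm⟩ := exists_field (en x) hirr
  have hinj : Function.Injective φ := φ.toRingHom.injective
  have hmem : ∀ k : L, φ k ∈ Algebra.adjoin F {en x} := fun k => by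
    rw [← hφ]; exact ⟨k, rfl⟩
  have hsur : ∀ f ∈ Algebra.adjoin F {en x}, ∃ k : L, φ k = f := fun f hf => by
    rw [← hφ] at hf; exact hf
  obtain ⟨ξ, hξ⟩ := hsur _ (Algebra.self_mem_adjoin_singleton F (en x))
  obtain ⟨ξ', hξ'⟩ := hsur _ (inv_mem_adjoin hn hxn)
  have hmul : ξ * ξ' = 1 := by
    apply hinj
    rw [map_mul, hξ, hξ', map_one, en_mul_inv]
  have hadj : ∀ k : L, ∃ k' : L, Adj Q (φ k) (φ k') := by
    intro k
    obtain ⟨f, hf, hk⟩ := exists_adj_mem hx hn hxn (hmem k)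
    obtain ⟨k', rfl⟩ := hsur f hf
    exact ⟨k', hk⟩
  choose τ hτ using hadj
  have huniq : ∀ k k' : L, Adj Q (φ k) (φ k') → τ k = k' := fun k k' h => hinj ((hτ k).unique hQ h)
  let T : L →+* L :=
    { toFun := τ
      map_one' := huniq _ _ (by rw [map_one]; exact Adj.one)
      map_mul' := fun a b => huniq _ _ (by
        rw [map_mul, mul_comm (τ a), map_mul]
        exact (hτ a).mul (hτ b))
      map_zero' := huniq _ _ (by
        rw [map_zero]
        intro u v
        simp)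
      map_add' := fun a b => huniq _ _ (by
        rw [map_add, map_add]
        exact (hτ a).add (hτ b)) }
  have hT : ∀ k, T k = τ k := fun _ => rfl
  have hTT : ∀ k, T (T k) = k := fun k => huniq _ _ (hτ k).symm
  have hTξ : T ξ = ξ' := huniq _ _ (by rw [hξ, hξ']; exact Adj.iso hx)
  have h2L : (2 : L) ≠ 0 := by
    have h3 : algebraMap F L 2 ≠ 0 := by
      rw [Ne, map_eq_zero]; exact h2
    rwa [map_ofNat] at h3
  -- an element of odd order
  have hpow : ∀ m : ℕ, ξ ^ m = 1 → x ^ m = 1 := by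
    intro m hm
    apply en_inj
    rw [en_pow, ← hξ, ← map_pow, hm, map_one]
    rfl
  have hs : ξ - T ξ ≠ 0 := by
    intro h
    apply hx1
    apply eq_one_of_odd hn _ hxn
    apply hpow
    rw [sub_eq_zero, hTξ] at h
    rw [pow_two]
    nth_rewrite 2 [h]
    exact hmul
  have hTs : T (ξ - T ξ) = -(ξ - T ξ) := by
    rw [map_sub, hTT, neg_sub]
  obtain ⟨b, hb, hbg⟩ := exists_gen (F := F) (L := L) h2
  have hc0 : b + T b ≠ 0 := by
    intro h
    have h3 : T b = -b := by linear_combination h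
    have hξ0 : ξ ≠ 0 := fun h => by rw [h, zero_mul] at hmul; exact zero_ne_one hmul
    obtain ⟨i, hi⟩ := hbg ξ hξ0
    have h4 : (T ξ) ^ 2 = ξ ^ 2 := by
      rw [← hi, map_pow, h3, ← pow_mul, ← pow_mul, mul_comm i 2, pow_mul, neg_sq, ← pow_mul]
    have h5 : (ξ ^ 2) ^ 2 = 1 := by
      have : ξ ^ 2 * (T ξ) ^ 2 = 1 := by rw [← mul_pow, hTξ, hmul, one_pow]
      rw [h4] at this
      rw [pow_two (ξ ^ 2)]
      exact this
    have h6 : (x ^ 2) ^ 2 = 1 := by
      rw [← pow_mul]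
      apply hpow
      rw [pow_mul]
      exact h5
    have h7 : x ^ 2 = 1 := eq_one_of_odd hn h6 (by rw [← pow_mul, mul_comm, pow_mul, hxn, one_pow])
    exact hx1 (eq_one_of_odd hn h7 hxn)
  have hcT : T (b + T b) = b + T b := by rw [map_add, hTT, add_comm]
  obtain ⟨r, hr⟩ := isSquare_of_fixed h2L T hs hTs hcT
  have hbb : φ b + φ (T b) = φ (b + T b) := (map_add φ _ _).symm
  obtain ⟨z, hz, hzc⟩ := exists_el h2 hQ hev (b := φ b) (b' := φ (T b)) (hτ b)
    (by rw [← map_mul, mul_comm, map_mul]) (by rw [hnorm]; exact hb)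
    (by rw [hbb, hnorm, hr, map_mul]; exact IsSquare.mul_self _)
    (by
      rw [hbb]
      intro h0
      have h3 : LinearMap.det (φ (b + T b)) * LinearMap.det (φ (b + T b)⁻¹) = 1 := by
        rw [← map_mul, ← map_mul, mul_inv_cancel₀ hc0, map_one, map_one]
      rw [h0, zero_mul] at h3
      exact zero_ne_one h3)
  exact ⟨z, hz, hzc x hx (by rw [← hξ, ← map_mul, mul_comm, map_mul])⟩

end Cfsg.Agent.H813.SpC
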