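import Mathlib
import Cfsg.Agent.H813.SpC.CaseA

/-!
# Isometries of odd order on a sum of two totally isotropic spaces (helper813)
-/

set_option autoImplicit false

namespace Cfsg.Agent.H813.SpC

open QuadraticMap Module
open Cfsg.Agent.LieClassical.OrthCore Cfsg.Agent.H160.QSpin Cfsg.Agent.H160.QSplit

variable {F V : Type*} [Field F] [AddCommGroup V] [Module F V]

theorem fix_of_sq {x : V ≃ₗ[F] V} {n : ℕ} (hn : Odd n) (hxn : x ^ n = 1) {v : V} (h : x (x v) = v) :
    x v = v := by
  have e3 : ∀ k : ℕ, ((x ^ 2) ^ k) v = v := by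
    intro k
    induction k with
    | zero => rfl
    | succ k ih =>
      rw [pow_succ]
      show ((x ^ 2) ^ k) ((x ^ 2) v) = v
      rw [pow_two x] at ih ⊢
      have h3 : (x * x) v = v := h
      rw [h3, ih]
  obtain ⟨k, hk⟩ := hn
  have e4 : (x ^ 2) ^ k * x = 1 := by rw [← pow_mul, ← pow_succ, ← hk, hxn]
  have e5 : ((x ^ 2) ^ k) (x v) = v := LinearEquiv.congr_fun e4 v
  have e6 : ((x ^ 2) ^ k) v = v := e3 k
  exact ((x ^ 2) ^ k).injective (e5.trans e6.symm)

/-- **A sum of two totally isotropic invariant spaces.** -/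
theorem caseB [Finite F] [Finite V] (h2 : (2 : F) ≠ 0) {Q : QuadraticForm F V} (hQ : Nondeg Q)
    {x : V ≃ₗ[F] V} (hx : x ∈ O Q) {n : ℕ} (hn : Odd n) (hxn : x ^ n = 1)
    (hfix : ∀ v, x v = v → v = 0) {W W' : Submodule F V} (hc : IsCompl W W') (hW0 : W ≠ ⊥)
    (hW : ∀ a ∈ W, ∀ b ∈ W, polar Q a b = 0) (hW' : ∀ a ∈ W', ∀ b ∈ W', polar Q a b = 0)
    (hxW : ∀ w ∈ W, x w ∈ W) (hxW' : ∀ w ∈ W', x w ∈ W')
    (hirr : ∀ W₁ : Submodule F V, W₁ ≤ W → (∀ w ∈ W₁, x w ∈ W₁) → W₁ = ⊥ ∨ W₁ = W) :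
    ∃ z : V ≃ₗ[F] V, El Q (-1) z ∧ x * z = z * x := by
  have hev : Even (finrank F V) := even_finrank h2 hQ hx hn hxn hfix
  have hnt : Nontrivial W := Submodule.nontrivial_iff_ne_bot.2 hW0
  let xW : Module.End F W := (en x).restrict hxW
  have hxWv : ∀ w : W, (xW w : V) = x w := fun w => rfl
  have hirrW : ∀ W₁ : Submodule F W, (∀ w ∈ W₁, xW w ∈ W₁) → W₁ = ⊥ ∨ W₁ = ⊤ := by
    intro W₁ h1
    rcases hirr (W₁.map W.subtype) (Submodule.map_subtype_le W W₁) (by
      rintro _ ⟨w, hw, rfl⟩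
      exact ⟨xW w, h1 w hw, rfl⟩) with h | h
    · left
      rw [← Submodule.map_bot W.subtype] at h
      exact Submodule.map_injective_of_injective W.injective_subtype h
    · right
      rw [eq_top_iff]
      intro w _
      have h3 : (w : V) ∈ W₁.map W.subtype := by rw [h]; exact w.2
      obtain ⟨w₁, hw₁, h4⟩ := h3
      have h5 : w₁ = w := Subtype.ext h4
      rw [← h5]
      exact hw₁
  obtain ⟨L, _, _, _, φ, hφ, hnorm⟩ := exists_field xW hirrW
  have hinj : Function.Injective φ := φ.toRingHom.injective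
  obtain ⟨ξ, hξ⟩ : ∃ ξ : L, φ ξ = xW := by
    have h1 := Algebra.self_mem_adjoin_singleton F xW
    rw [← hφ] at h1
    exact h1
  obtain ⟨a, ha, hag⟩ := exists_gen (F := F) (L := L) h2
  have hcom : ∀ w : W, φ a (xW w) = xW (φ a w) := by
    intro w
    have h1 : φ a * φ ξ = φ ξ * φ a := by rw [← map_mul, mul_comm, map_mul]
    rw [hξ] at h1
    exact LinearMap.congr_fun h1 w
  have ha1 : a + 1 ≠ 0 := by
    intro h
    have h3 : a = -1 := by linear_combination h
    obtain ⟨w, hw⟩ := exists_ne (0 : W)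
    have hξ0 : ξ ≠ 0 := by
      rintro rfl
      rw [map_zero] at hξ
      apply hw
      apply Subtype.ext
      apply x.injective
      have h4 : xW w = 0 := by rw [← hξ]; rfl
      have h5 : x w = 0 := congrArg Subtype.val h4
      rw [h5]
      exact (map_zero x).symm
    obtain ⟨i, hi⟩ := hag ξ hξ0
    have h4 : ξ * ξ = 1 := by
      rw [← hi, h3, ← pow_add, ← two_mul, pow_mul, neg_one_sq, one_pow]
    have h5 : xW (xW w) = w := by
      have h6 : φ ξ * φ ξ = 1 := by rw [← map_mul, h4, map_one]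
      rw [hξ] at h6
      exact LinearMap.congr_fun h6 w
    have h6 : x (x (w : V)) = w := congrArg Subtype.val h5
    exact hw (Subtype.ext (hfix _ (fix_of_sq hn hxn h6)))
  have hainj : ∀ w : W, φ a w + w = 0 → w = 0 := by
    intro w hw
    have h1 : φ (a + 1)⁻¹ * φ (a + 1) = 1 := by rw [← map_mul, inv_mul_cancel₀ ha1, map_one]
    have h3 : φ (a + 1) w = 0 := by
      rw [map_add, map_one]
      exact hw
    have h4 := LinearMap.congr_fun h1 w
    rw [Module.End.mul_apply, h3, map_zero] at h4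
    exact h4.symm
  -- the endomorphism `b`
  let e : (W × W') ≃ₗ[F] V := Submodule.prodEquivOfIsCompl W W' hc
  have he : ∀ p : W × W', e p = p.1 + p.2 := fun p => Submodule.coe_prodEquivOfIsCompl' W W' hc p
  let b : Module.End F V := (e : (W × W') →ₗ[F] V) ∘ₗ (LinearMap.prodMap (φ a) LinearMap.id) ∘ₗ (e.symm : V →ₗ[F] (W × W'))
  have hb : ∀ (w : W) (w' : W'), b (w + w') = φ a w + w' := by
    intro w w'
    have h1 : (w : V) + w' = e (w, w') := (he (w, w')).symm
    rw [h1]
    show e ((LinearMap.prodMap (φ a) LinearMap.id) (e.symm (e (w, w')))) = _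
    rw [LinearEquiv.symm_apply_apply, LinearMap.prodMap_apply, he]
    rfl
  have hdec : ∀ v : V, ∃ (w : W) (w' : W'), v = w + w' := by
    intro v
    obtain ⟨p, rfl⟩ := e.surjective v
    exact ⟨p.1, p.2, he p⟩
  have hdet : LinearMap.det b = LinearMap.det (φ a) := by
    have h1 : LinearMap.det b = LinearMap.det (LinearMap.prodMap (φ a) (LinearMap.id : W' →ₗ[F] W')) :=
      LinearMap.det_conj _ _
    rw [h1, LinearMap.det_prodMap, LinearMap.det_id, mul_one]
  have hbW : ∀ w : W, b w = φ a w := by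
    intro w
    have := hb w 0
    simpa using this
  have hbW' : ∀ w' : W', b w' = w' := by
    intro w'
    have := hb 0 w'
    simpa using this
  obtain ⟨b', hA⟩ := exists_adj hQ b
  have hb'W : ∀ w : W, b' w = w := by
    intro w
    rw [← sub_eq_zero]
    apply hQ
    intro v
    rw [polar_comm Q, polar_sub_right, ← hA]
    obtain ⟨u, u', rfl⟩ := hdec v
    rw [hb, polar_add_left, polar_add_left, hW _ (φ a u).2 _ w.2, hW _ u.2 _ w.2, sub_self]
  have hW'perp : ∀ v : V, (∀ u' : W', polar Q v u' = 0) → v ∈ W' := by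
    intro v hv
    obtain ⟨w, w', rfl⟩ := hdec v
    have h1 : (w : V) = 0 := by
      apply hQ
      intro y
      obtain ⟨u, u', rfl⟩ := hdec y
      have h3 := hv u'
      rw [polar_add_left, hW' _ w'.2 _ u'.2, add_zero] at h3
      rw [polar_add_right, hW _ w.2 _ u.2, h3, add_zero]
    rw [h1, zero_add]
    exact w'.2
  have hb'W' : ∀ w' : W', b' w' ∈ W' := by
    intro w'
    apply hW'perp
    intro u'
    rw [polar_comm Q, ← hA, hbW', hW' _ u'.2 _ w'.2]
  have hcomm : b * b' = b' * b := by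
    ext v
    obtain ⟨w, w', rfl⟩ := hdec v
    rw [Module.End.mul_apply, Module.End.mul_apply, hb, map_add, map_add, hb'W, map_add, hbW, hb'W]
    congr 1
    exact hbW' ⟨b' w', hb'W' w'⟩
  have hkey : (2 : F) • (b + b') = (b + 1) * (b' + 1) := by
    have h1 : (b - 1) * (b' - 1) = 0 := by
      ext v
      obtain ⟨w, w', rfl⟩ := hdec v
      rw [Module.End.mul_apply, LinearMap.sub_apply b', map_add b', hb'W, Module.End.one_apply,
        add_sub_add_left_eq_sub, LinearMap.sub_apply, Module.End.one_apply,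
        show b' (w' : V) - w' = ((⟨b' w', hb'W' w'⟩ - w' : W') : V) from rfl, hbW', sub_self]
      rfl
    have h3 : (b + 1) * (b' + 1) = (b - 1) * (b' - 1) + (b + b') + (b + b') := by noncomm_ring
    rw [h3, h1, zero_add, two_smul]
  have hdet1 : LinearMap.det (b + 1) ≠ 0 := by
    apply det_ne_zero_of_inj
    intro v hv
    obtain ⟨w, w', rfl⟩ := hdec v
    rw [LinearMap.add_apply, hb, Module.End.one_apply] at hv
    have h1 : e (φ a w + w, w' + w') = 0 := by
      rw [he, ← hv]
      simp only [Submodule.coe_add]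
      abel
    rw [LinearEquiv.map_eq_zero_iff] at h1
    have h3 := hainj w (congrArg Prod.fst h1)
    have h4 : w' + w' = 0 := congrArg Prod.snd h1
    rw [← two_smul F w'] at h4
    have h5 : w' = 0 := (smul_eq_zero.1 h4).resolve_left h2
    rw [h3, h5]
    simp
  have hdetA : LinearMap.det (b' + 1) = LinearMap.det (b + 1) := (hA.add Adj.one).det hQ
  have hdet2 : (2 : F) ^ finrank F V * LinearMap.det (b + b') = LinearMap.det (b + 1) * LinearMap.det (b + 1) := by
    rw [← LinearMap.det_smul, hkey, map_mul, hdetA]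
  have hsq : IsSquare (LinearMap.det (b + b')) := by
    obtain ⟨m, hm⟩ := hev
    apply isSquare_of_sq_mul (d := (2 : F) ^ m) (pow_ne_zero _ h2)
    refine ⟨LinearMap.det (b + 1), ?_⟩
    rw [← hdet2, hm, pow_add]
    ring
  have hne : LinearMap.det (b + b') ≠ 0 := by
    intro h0
    rw [h0, mul_zero] at hdet2
    exact mul_ne_zero hdet1 hdet1 hdet2.symm
  obtain ⟨z, hz, hzc⟩ := exists_el h2 hQ hev hA hcomm (by rw [hdet, hnorm]; exact ha) hsq hne
  refine ⟨z, hz, hzc x hx ?_⟩
  ext v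
  obtain ⟨w, w', rfl⟩ := hdec v
  rw [Module.End.mul_apply, Module.End.mul_apply, hb, map_add, map_add]
  have h1 : (en x) (w : V) = ((xW w : W) : V) := rfl
  have h3 : (en x) (w' : V) = ((⟨x w', hxW' _ w'.2⟩ : W') : V) := rfl
  have h4 : (en x) ((φ a w : W) : V) = ((xW (φ a w) : W) : V) := rfl
  rw [h1, h3, h4, hb, hcom]

end Cfsg.Agent.H813.SpC
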