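import Mathlib
import Cfsg.Agent.H813.SpC.CaseB

/-!
# Extension of isometries from nondegenerate subspaces; cyclic groups of odd order (helper813)
-/

set_option autoImplicit false

namespace Cfsg.Agent.H813.SpC

open QuadraticMap Module
open Cfsg.Agent.LieClassical.OrthCore Cfsg.Agent.H160.QSpin Cfsg.Agent.H160.QSplit

variable {F V : Type*} [Field F] [AddCommGroup V] [Module F V]

/-- the orthogonal complement -/
def pc (Q : QuadraticForm F V) (U : Submodule F V) : Submodule F V :=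
  LinearMap.BilinForm.orthogonal (polarBilin Q) U

theorem mem_pc {Q : QuadraticForm F V} {U : Submodule F V} {v : V} :
    v ∈ pc Q U ↔ ∀ u ∈ U, polar Q u v = 0 := Iff.rfl

/-- nondegenerate subspaces -/
def ND (Q : QuadraticForm F V) (U : Submodule F V) : Prop :=
  ∀ u ∈ U, (∀ v ∈ U, polar Q u v = 0) → u = 0

theorem ND.nondeg {Q : QuadraticForm F V} {U : Submodule F V} (hU : ND Q U) : Nondeg (Q.comp U.subtype) :=
  fun u hu => Subtype.ext (hU u u.2 fun v hv => hu ⟨v, hv⟩)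

theorem nd_of_nondeg {Q : QuadraticForm F V} {U : Submodule F V} (hU : Nondeg (Q.comp U.subtype)) : ND Q U :=
  fun u hu h => congrArg Subtype.val (hU ⟨u, hu⟩ fun v => h v v.2)

theorem isCompl_pc [FiniteDimensional F V] {Q : QuadraticForm F V} {U : Submodule F V} (hU : ND Q U) :
    IsCompl U (pc Q U) := by
  refine LinearMap.BilinForm.isCompl_orthogonal_of_restrict_nondegenerate
    (Cfsg.Agent.H160.QDisc.isSymm_bilin Q).isRefl ⟨fun u hu => ?_, fun u hu => ?_⟩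
  · exact Subtype.ext (hU u u.2 fun v hv => hu ⟨v, hv⟩)
  · exact Subtype.ext (hU u u.2 fun v hv => by rw [polar_comm]; exact hu ⟨v, hv⟩)

theorem decomp [FiniteDimensional F V] {Q : QuadraticForm F V} {U : Submodule F V} (hU : ND Q U) (v : V) :
    ∃ a ∈ U, ∃ b ∈ pc Q U, v = a + b := by
  have h := (isCompl_pc hU).sup_eq_top
  have hv : v ∈ U ⊔ pc Q U := by rw [h]; trivial
  obtain ⟨a, ha, b, hb, rfl⟩ := Submodule.mem_sup.1 hv
  exact ⟨a, ha, b, hb, rfl⟩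

/-- restriction of an automorphism to an invariant subspace -/
theorem exists_res [FiniteDimensional F V] (g : V ≃ₗ[F] V) {U : Submodule F V} (h : ∀ v ∈ U, g v ∈ U) :
    ∃ t : U ≃ₗ[F] U, ∀ v, (t v : V) = g v :=
  ⟨LinearEquiv.ofInjectiveEndo ((g : V →ₗ[F] V).restrict h) (fun _ _ hab =>
    Subtype.ext (g.injective (congrArg Subtype.val hab))), fun _ => rfl⟩

theorem inv_mem_of [FiniteDimensional F V] {g : V ≃ₗ[F] V} {U : Submodule F V} (h : ∀ v ∈ U, g v ∈ U) :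
    ∀ v ∈ U, ∃ u ∈ U, g u = v := by
  obtain ⟨t, ht⟩ := exists_res g h
  intro v hv
  obtain ⟨u, hu⟩ := t.surjective ⟨v, hv⟩
  exact ⟨u, u.2, by rw [← ht, hu]⟩

theorem pc_inv [FiniteDimensional F V] {Q : QuadraticForm F V} {g : V ≃ₗ[F] V} (hg : g ∈ O Q)
    {U : Submodule F V} (h : ∀ v ∈ U, g v ∈ U) : ∀ v ∈ pc Q U, g v ∈ pc Q U := by
  intro v hv
  rw [mem_pc] at hv ⊢
  intro u hu
  obtain ⟨w, hw, rfl⟩ := inv_mem_of h u hu
  rw [polar_map hg]
  exact hv w hw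

/-- **Extension by the identity.** -/
theorem extend [Finite F] [Finite V] (h2 : (2 : F) ≠ 0) {Q : QuadraticForm F V} (hQ : Nondeg Q)
    {T : Submodule F V} (hT : ND Q T) {s : ℤˣ} {t : T ≃ₗ[F] T} (ht : El (Q.comp T.subtype) s t) :
    ∃ z : V ≃ₗ[F] V, El Q s z ∧ (∀ v : T, z v = t v) ∧ (∀ v ∈ pc Q T, z v = v) := by
  let e : (T × pc Q T) ≃ₗ[F] V := Submodule.prodEquivOfIsCompl T (pc Q T) (isCompl_pc hT)
  have he0 : ∀ p : T × pc Q T, e p = p.1 + p.2 := fun p =>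
    Submodule.coe_prodEquivOfIsCompl' T (pc Q T) (isCompl_pc hT) p
  have he : IsIso ((Q.comp T.subtype).prod (Q.comp (pc Q T).subtype)) Q e := by
    intro p
    rw [he0, Qpr_apply, Q_add, mem_pc.1 p.2.2 _ p.1.2, add_zero]
    rfl
  have hn := nondeg_of_prod (he.symm.nondeg hQ)
  have h1 := El.cj he (El.pr h2 hn.1 hn.2 ht (El.one (Q.comp (pc Q T).subtype)))
  rw [mul_one] at h1
  refine ⟨_, h1, ?_, ?_⟩
  · intro v
    have h3 : (v : V) = e (v, 0) := by rw [he0]; simp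
    nth_rewrite 1 [h3]
    rw [cj_apply', pr_apply, he0]
    simp
  · intro v hv
    have h3 : v = e (0, ⟨v, hv⟩) := by rw [he0]; simp
    nth_rewrite 1 [h3]
    rw [cj_apply', pr_apply, he0]
    simp

theorem comm_of_restrict [Finite V] {Q : QuadraticForm F V} {T : Submodule F V} (hT : ND Q T)
    {z : V ≃ₗ[F] V} (hz : ∀ v ∈ pc Q T, z v = v) {g : V ≃ₗ[F] V} (hg : g ∈ O Q)
    (hgT : ∀ v ∈ T, g v ∈ T) (hgz : ∀ v ∈ T, g (z v) = z (g v)) : g * z = z * g := by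
  ext v
  obtain ⟨a, ha, b, hb, rfl⟩ := decomp hT v
  show g (z (a + b)) = z (g (a + b))
  rw [map_add, map_add, map_add, map_add, hgz a ha, hz b hb, hz (g b) (pc_inv hg hgT b hb)]

theorem res_pow {g : V ≃ₗ[F] V} {U : Submodule F V} {t : U ≃ₗ[F] U} (ht : ∀ v, (t v : V) = g v) {n : ℕ}
    (hn : g ^ n = 1) : t ^ n = 1 := by
  have h1 : ∀ (k : ℕ) (v : U), ((t ^ k) v : V) = (g ^ k) v := by
    intro k
    induction k with
    | zero => intro v; rfl
    | succ k ih =>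
      intro v
      rw [pow_succ', pow_succ']
      show ((t ((t ^ k) v) : U) : V) = g ((g ^ k) v)
      rw [ht, ih]
  ext v
  rw [h1, hn]
  rfl

theorem res_mem_O {Q : QuadraticForm F V} {g : V ≃ₗ[F] V} (hg : g ∈ O Q) {U : Submodule F V}
    {t : U ≃ₗ[F] U} (ht : ∀ v, (t v : V) = g v) : t ∈ O (Q.comp U.subtype) := by
  intro v
  show Q (t v : V) = Q (v : V)
  rw [ht, mem_O.1 hg]

theorem of_sub [Finite F] [Finite V] (h2 : (2 : F) ≠ 0) {Q : QuadraticForm F V} (hQ : Nondeg Q)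
    {T : Submodule F V} (hT : ND Q T) {x : V ≃ₗ[F] V} (hx : x ∈ O Q) {t : T ≃ₗ[F] T}
    (ht : ∀ v, (t v : V) = x v)
    (h : ∃ z : T ≃ₗ[F] T, El (Q.comp T.subtype) (-1) z ∧ t * z = z * t) :
    ∃ z : V ≃ₗ[F] V, El Q (-1) z ∧ x * z = z * x := by
  obtain ⟨z₀, hz₀, hc⟩ := h
  obtain ⟨z, hz, hz1, hz2⟩ := extend h2 hQ hT hz₀
  refine ⟨z, hz, comm_of_restrict hT hz2 hx (fun v hv => ?_) fun v hv => ?_⟩
  · rw [← ht ⟨v, hv⟩]
    exact (t ⟨v, hv⟩).2
  · have h1 : z v = z₀ ⟨v, hv⟩ := hz1 ⟨v, hv⟩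
    have h3 : x v = t ⟨v, hv⟩ := (ht ⟨v, hv⟩).symm
    rw [h1, h3, hz1, ← ht]
    exact congrArg Subtype.val (LinearEquiv.congr_fun hc ⟨v, hv⟩)

/-- minimal invariant subspaces -/
theorem exists_min [Finite V] {x : V ≃ₗ[F] V} {S : Submodule F V} (hS : S ≠ ⊥) (hxS : ∀ v ∈ S, x v ∈ S) :
    ∃ W ≤ S, W ≠ ⊥ ∧ (∀ v ∈ W, x v ∈ W) ∧
      ∀ W₁ : Submodule F V, W₁ ≤ W → (∀ w ∈ W₁, x w ∈ W₁) → W₁ = ⊥ ∨ W₁ = W := by
  have hfin : Finite (Submodule F V) := Finite.of_injective (fun U : Submodule F V => (U : Set V)) SetLike.coe_injective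
  obtain ⟨W, ⟨h1, h2, h3⟩, h4⟩ := (wellFounded_lt (α := Submodule F V)).has_min
    {W | W ≤ S ∧ W ≠ ⊥ ∧ ∀ v ∈ W, x v ∈ W} ⟨S, le_rfl, hS, hxS⟩
  refine ⟨W, h1, h2, h3, fun W₁ h5 h6 => ?_⟩
  by_contra hcon
  push Not at hcon
  exact h4 W₁ ⟨h5.trans h1, hcon.1, h6⟩ (lt_of_le_of_ne h5 hcon.2)

theorem irr_res {x : V ≃ₗ[F] V} {T W : Submodule F V} {t : T ≃ₗ[F] T} (ht : ∀ v, (t v : V) = x v)
    (hirr : ∀ W₁ : Submodule F V, W₁ ≤ W → (∀ w ∈ W₁, x w ∈ W₁) → W₁ = ⊥ ∨ W₁ = W) :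
    ∀ W₁ : Submodule F T, W₁ ≤ W.comap T.subtype → (∀ w ∈ W₁, t w ∈ W₁) →
      W₁ = ⊥ ∨ W₁ = W.comap T.subtype := by
  intro W₁ h1 h3
  rcases hirr (W₁.map T.subtype) (by rw [Submodule.map_le_iff_le_comap]; exact h1) (by
    rintro _ ⟨w, hw, rfl⟩
    exact ⟨t w, h3 w hw, ht w⟩) with h | h
  · left
    rw [← Submodule.map_bot T.subtype] at h
    exact Submodule.map_injective_of_injective T.injective_subtype h
  · right
    rw [← h, Submodule.comap_map_eq_of_injective T.injective_subtype]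

/-- a nondegenerate irreducible invariant subspace suffices -/
theorem of_irr [Finite F] [Finite V] (h2 : (2 : F) ≠ 0) {Q : QuadraticForm F V} (hQ : Nondeg Q)
    {x : V ≃ₗ[F] V} (hx : x ∈ O Q) {n : ℕ} (hn : Odd n) (hxn : x ^ n = 1)
    (hfix : ∀ v, x v = v → v = 0) {T : Submodule F V} (hT : ND Q T) (hT0 : T ≠ ⊥) (hxT : ∀ v ∈ T, x v ∈ T)
    (hirr : ∀ W₁ : Submodule F V, W₁ ≤ T → (∀ w ∈ W₁, x w ∈ W₁) → W₁ = ⊥ ∨ W₁ = T) :
    ∃ z : V ≃ₗ[F] V, El Q (-1) z ∧ x * z = z * x := by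
  obtain ⟨t, ht⟩ := exists_res x hxT
  apply of_sub h2 hQ hT hx ht
  refine caseA h2 hT.nondeg (res_mem_O hx ht) hn (res_pow ht hxn) ?_ ?_
  · rintro rfl
    apply hT0
    rw [eq_bot_iff]
    intro v hv
    exact hfix v (ht ⟨v, hv⟩).symm
  · intro W₁ h1
    have h3 := irr_res ht hirr W₁ (by rw [Submodule.comap_subtype_self]; exact le_top) h1
    rwa [Submodule.comap_subtype_self] at h3

/-- **Cyclic groups of odd order without fixed vectors.** -/
theorem cyc [Finite F] [Finite V] [Nontrivial V] (h2 : (2 : F) ≠ 0) {Q : QuadraticForm F V} (hQ : Nondeg Q)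
    {x : V ≃ₗ[F] V} (hx : x ∈ O Q) {n : ℕ} (hn : Odd n) (hxn : x ^ n = 1) (hnF : (n : F) ≠ 0)
    (hfix : ∀ v, x v = v → v = 0) :
    ∃ z : V ≃ₗ[F] V, El Q (-1) z ∧ x * z = z * x := by
  obtain ⟨W, -, hW0, hxW, hWirr⟩ := exists_min (x := x) (S := (⊤ : Submodule F V)) top_ne_bot (fun _ _ => trivial)
  by_cases hW : ND Q W
  · exact of_irr h2 hQ hx hn hxn hfix hW hW0 hxW hWirr
  have hWi : ∀ a ∈ W, ∀ b ∈ W, polar Q a b = 0 := by
    rcases hWirr (W ⊓ pc Q W) inf_le_left (fun w hw => ⟨hxW w hw.1, pc_inv hx hxW w hw.2⟩) with h | h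
    · exfalso
      apply hW
      intro u hu huv
      have h1 : u ∈ W ⊓ pc Q W := ⟨hu, mem_pc.2 fun v hv => by rw [polar_comm]; exact huv v hv⟩
      rw [h] at h1
      exact h1
    · intro a ha b hb
      rw [← h] at hb
      exact mem_pc.1 hb.2 a ha
  -- an invariant complement of `W^⊥`
  have hss : (en x).IsSemisimple := by
    refine Module.End.isSemisimple_of_squarefree_aeval_eq_zero (p := Polynomial.X ^ n - 1)
      (Polynomial.X_pow_sub_one_separable_iff.2 hnF).squarefree ?_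
    rw [map_sub, map_pow, Polynomial.aeval_X, map_one, ← en_pow, hxn, sub_eq_zero]
    rfl
  obtain ⟨C, hC, hCc⟩ := Module.End.isSemisimple_iff.1 hss (pc Q W) (fun v hv => pc_inv hx hxW v hv)
  have hxC : ∀ v ∈ C, x v ∈ C := fun v hv => hC hv
  have hC0 : C ≠ ⊥ := by
    rintro rfl
    have h1 : pc Q W = ⊤ := by
      have := hCc.sup_eq_top
      rwa [sup_bot_eq] at this
    apply hW0
    rw [eq_bot_iff]
    intro w hw
    apply hQ
    intro v
    have h3 : v ∈ pc Q W := by rw [h1]; trivial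
    exact mem_pc.1 h3 w hw
  obtain ⟨W', hW'C, hW'0, hxW', hW'irr⟩ := exists_min (x := x) hC0 hxC
  by_cases hW' : ND Q W'
  · exact of_irr h2 hQ hx hn hxn hfix hW' hW'0 hxW' hW'irr
  have hW'i : ∀ a ∈ W', ∀ b ∈ W', polar Q a b = 0 := by
    rcases hW'irr (W' ⊓ pc Q W') inf_le_left (fun w hw => ⟨hxW' w hw.1, pc_inv hx hxW' w hw.2⟩) with h | h
    · exfalso
      apply hW'
      intro u hu huv
      have h1 : u ∈ W' ⊓ pc Q W' := ⟨hu, mem_pc.2 fun v hv => by rw [polar_comm]; exact huv v hv⟩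
      rw [h] at h1
      exact h1
    · intro a ha b hb
      rw [← h] at hb
      exact mem_pc.1 hb.2 a ha
  -- the pairing between `W` and `W'`
  have hp1 : ∀ w' ∈ W', (∀ w ∈ W, polar Q w w' = 0) → w' = 0 := by
    intro w' hw' h
    have h1 : w' ∈ pc Q W ⊓ C := ⟨mem_pc.2 h, hW'C hw'⟩
    rw [hCc.inf_eq_bot] at h1
    exact h1
  have hp2 : ∀ w ∈ W, (∀ w' ∈ W', polar Q w' w = 0) → w = 0 := by
    rcases hWirr (W ⊓ pc Q W') inf_le_left (fun w hw => ⟨hxW w hw.1, pc_inv hx hxW' w hw.2⟩) with h | h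
    · intro w hw h1
      have h3 : w ∈ W ⊓ pc Q W' := ⟨hw, mem_pc.2 h1⟩
      rw [h] at h3
      exact h3
    · exfalso
      apply hW'0
      rw [eq_bot_iff]
      intro w' hw'
      apply hp1 w' hw'
      intro w hw
      rw [← h] at hw
      rw [polar_comm]
      exact mem_pc.1 hw.2 w' hw'
  have hdisj : ∀ v ∈ W, v ∈ W' → v = 0 := fun v hv hv' => hp1 v hv' fun w hw => hWi w hw v hv
  have hT : ND Q (W ⊔ W') := by
    intro u hu h
    obtain ⟨w, hw, w', hw', rfl⟩ := Submodule.mem_sup.1 hu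
    have e1 : w' = 0 := by
      apply hp1 w' hw'
      intro v hv
      have h3 := h v (Submodule.mem_sup_left hv)
      rw [polar_add_left, hWi w hw v hv, zero_add] at h3
      rw [polar_comm]
      exact h3
    have e2 : w = 0 := by
      apply hp2 w hw
      intro v hv
      have h3 := h v (Submodule.mem_sup_right hv)
      rw [polar_add_left, hW'i w' hw' v hv, add_zero] at h3
      rw [polar_comm]
      exact h3
    rw [e1, e2, add_zero]
  have hxT : ∀ v ∈ W ⊔ W', x v ∈ W ⊔ W' := by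
    intro v hv
    obtain ⟨w, hw, w', hw', rfl⟩ := Submodule.mem_sup.1 hv
    rw [map_add]
    exact Submodule.add_mem_sup (hxW w hw) (hxW' w' hw')
  obtain ⟨t, ht⟩ := exists_res x hxT
  apply of_sub h2 hQ hT hx ht
  have hfixT : ∀ v, t v = v → v = 0 := fun v hv => Subtype.ext (hfix v (by rw [← ht, hv]))
  refine caseB h2 hT.nondeg (res_mem_O hx ht) hn (res_pow ht hxn) hfixT
    (W := W.comap (W ⊔ W').subtype) (W' := W'.comap (W ⊔ W').subtype) ?_ ?_ ?_ ?_ ?_ ?_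
    (irr_res ht hWirr)
  · constructor
    · rw [Submodule.disjoint_def]
      intro v hv hv'
      exact Subtype.ext (hdisj v hv hv')
    · rw [codisjoint_iff, eq_top_iff]
      rintro ⟨v, hv⟩ -
      obtain ⟨w, hw, w', hw', rfl⟩ := Submodule.mem_sup.1 hv
      exact Submodule.mem_sup.2 ⟨⟨w, Submodule.mem_sup_left hw⟩, hw, ⟨w', Submodule.mem_sup_right hw'⟩, hw', rfl⟩
  · intro h
    apply hW0
    rw [eq_bot_iff]
    intro w hw
    have h1 : (⟨w, Submodule.mem_sup_left hw⟩ : (W ⊔ W' : Submodule F V)) ∈ W.comap (W ⊔ W').subtype := hw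
    rw [h] at h1
    exact congrArg Subtype.val h1
  · exact fun a ha b hb => hWi a ha b hb
  · exact fun a ha b hb => hW'i a ha b hb
  · intro w hw
    show ((t w : (W ⊔ W' : Submodule F V)) : V) ∈ W
    rw [ht]
    exact hxW w hw
  · intro w hw
    show ((t w : (W ⊔ W' : Submodule F V)) : V) ∈ W'
    rw [ht]
    exact hxW' w hw

end Cfsg.Agent.H813.SpC
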