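import Mathlib
import Cfsg.Agent.H813.SpC.Ext
import Cfsg.Agent.S0126
import Cfsg.Agent.Solvable.FpfCyclic

/-!
# Isometries of spinor sign `-1` commuting with a `p`-group of isometries (helper813)

`exists_comm`: for `p` odd and different from the (odd) characteristic every nontrivial `p`-group of isometries of a
nondegenerate quadratic space commutes with an isometry of determinant one and spinor sign `-1`.
-/

set_option autoImplicit false

namespace Cfsg.Agent.H813.SpC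

open QuadraticMap Module
open Cfsg.Agent.LieClassical.OrthCore Cfsg.Agent.H160.QSpin Cfsg.Agent.H160.QSplit

variable {F V : Type*} [Field F] [AddCommGroup V] [Module F V]

/-- the fixed space -/
def fx (A : Subgroup (V ≃ₗ[F] V)) : Submodule F V where
  carrier := {v | ∀ a ∈ A, a v = v}
  add_mem' {v w} hv hw := fun a ha => by rw [map_add, hv a ha, hw a ha]
  zero_mem' := fun a _ => map_zero a
  smul_mem' c {v} hv := fun a ha => by rw [map_smul, hv a ha]

theorem mem_fx {A : Subgroup (V ≃ₗ[F] V)} {v : V} : v ∈ fx A ↔ ∀ a ∈ A, a v = v := Iff.rfl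

theorem finite_equiv [Finite V] : Finite (V ≃ₗ[F] V) :=
  Finite.of_injective (fun g : V ≃ₗ[F] V => (g : V → V)) DFunLike.coe_injective

/-- averaging -/
theorem exists_avg [Finite V] {Q : QuadraticForm F V} {A : Subgroup (V ≃ₗ[F] V)} (hA : A ≤ O Q) (v : V) :
    ∃ w ∈ fx A, (∀ u ∈ fx A, polar Q u w = (Nat.card A : F) * polar Q u v) ∧
      ∀ W : Submodule F V, (∀ a ∈ A, a v ∈ W) → w ∈ W := by
  classical
  have hfin : Finite (V ≃ₗ[F] V) := finite_equiv
  let _ : Fintype A := Fintype.ofFinite A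
  refine ⟨∑ a : A, (a : V ≃ₗ[F] V) v, ?_, ?_, ?_⟩
  · intro b hb
    rw [map_sum]
    exact Fintype.sum_equiv (Equiv.mulLeft (⟨b, hb⟩ : A)) _ _ fun a => rfl
  · intro u hu
    have h1 : polarBilin Q u (∑ a : A, (a : V ≃ₗ[F] V) v) = ∑ a : A, polarBilin Q u ((a : V ≃ₗ[F] V) v) :=
      map_sum _ _ _
    have h3 : ∀ a : A, polarBilin Q u ((a : V ≃ₗ[F] V) v) = polar Q u v := by
      intro a
      have h4 : polar Q ((a : V ≃ₗ[F] V) u) ((a : V ≃ₗ[F] V) v) = polar Q u v := polar_map (hA a.2) u v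
      rw [mem_fx.1 hu a a.2] at h4
      exact h4
    rw [Finset.sum_congr rfl (fun a _ => h3 a), Finset.sum_const, Finset.card_univ, nsmul_eq_mul,
      ← Nat.card_eq_fintype_card] at h1
    exact h1
  · intro W hW
    exact Submodule.sum_mem W fun a _ => hW a a.2

theorem nd_fx [Finite V] {Q : QuadraticForm F V} (hQ : Nondeg Q) {A : Subgroup (V ≃ₗ[F] V)} (hA : A ≤ O Q)
    (hc : (Nat.card A : F) ≠ 0) : ND Q (fx A) := by
  intro u hu h
  apply hQ
  intro v
  obtain ⟨w, hw, h1, -⟩ := exists_avg hA v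
  have h3 := h1 u hu
  rw [h w hw] at h3
  exact (mul_eq_zero.1 h3.symm).resolve_left hc

theorem nd_pc [FiniteDimensional F V] {Q : QuadraticForm F V} (hQ : Nondeg Q) {U : Submodule F V}
    (hU : ND Q U) : ND Q (pc Q U) := by
  intro u hu h
  apply hQ
  intro v
  obtain ⟨a, ha, b, hb, rfl⟩ := decomp hU v
  rw [polar_add_right, h b hb, add_zero, polar_comm]
  exact mem_pc.1 hu a ha

/-- blocks for a group of isometries -/
structure Blk (Q : QuadraticForm F V) (P : Subgroup (V ≃ₗ[F] V)) (U : Submodule F V) : Prop where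
  nd : ND Q U
  ti : ∀ g ∈ P, (∀ u ∈ U, g u ∈ U) ∨ (∀ u ∈ U, ∀ v ∈ U, polar Q (g u) v = 0)
  nt : ∃ g ∈ P, (∀ u ∈ U, g u ∈ U) ∧ ∃ u ∈ U, g u ≠ u

theorem blk_top {Q : QuadraticForm F V} (hQ : Nondeg Q) {P : Subgroup (V ≃ₗ[F] V)} (hP : P ≠ ⊥) :
    Blk Q P ⊤ := by
  refine ⟨fun u _ h => hQ u fun v => h v trivial, fun g _ => Or.inl fun _ _ => trivial, ?_⟩
  obtain ⟨⟨g, hg⟩, hg1⟩ := Subgroup.ne_bot_iff_exists_ne_one.1 hP
  refine ⟨g, hg, fun _ _ => trivial, ?_⟩
  by_contra hcon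
  push Not at hcon
  exact hg1 (Subtype.ext (LinearEquiv.ext fun v => hcon v trivial))

section Min

variable [Finite V] {Q : QuadraticForm F V} (hQ : Nondeg Q) {p : ℕ} (hp : p.Prime) (hpF : (p : F) ≠ 0)
  {R : Subgroup (V ≃ₗ[F] V)} (hR : IsPGroup p R) (hRO : R ≤ O Q) (hmin : ∀ U : Submodule F V, Blk Q R U → U = ⊤)

include hp hpF hR in
theorem card_ne_zero {A : Subgroup (V ≃ₗ[F] V)} (hAR : A ≤ R) : (Nat.card A : F) ≠ 0 := by
  have : Fact p.Prime := ⟨hp⟩
  have hfin : Finite (V ≃ₗ[F] V) := finite_equiv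
  obtain ⟨k, hk⟩ := IsPGroup.iff_card.1 (hR.to_le hAR)
  rw [hk, Nat.cast_pow]
  exact pow_ne_zero _ hpF

include hQ hp hpF hR hRO hmin in
theorem fx_eq_bot {A : Subgroup (V ≃ₗ[F] V)} (hAR : A ≤ R) (hA1 : A ≠ ⊥)
    (hAn : ∀ r ∈ R, ∀ a ∈ A, r⁻¹ * a * r ∈ A) : fx A = ⊥ := by
  have hnd : ND Q (fx A) := nd_fx hQ (hAR.trans hRO) (card_ne_zero hp hpF hR hAR)
  have hinv : ∀ r ∈ R, ∀ v ∈ fx A, r v ∈ fx A := by
    intro r hr v hv a ha
    have h1 := mem_fx.1 hv _ (hAn r hr a ha)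
    have h3 : r ((r⁻¹ * a * r) v) = a (r v) := by
      have : r * (r⁻¹ * a * r) = a * r := by group
      exact LinearEquiv.congr_fun this v
    rw [h1] at h3
    exact h3.symm
  have hB : Blk Q R (pc Q (fx A)) := by
    refine ⟨nd_pc hQ hnd, fun r hr => Or.inl (pc_inv (hRO hr) (hinv r hr)), ?_⟩
    by_contra hcon
    push Not at hcon
    apply hA1
    rw [eq_bot_iff]
    intro a ha
    rw [Subgroup.mem_bot]
    ext v
    obtain ⟨b, hb, c, hc, rfl⟩ := decomp hnd v
    have h1 := hcon a (hAR ha) (pc_inv (hRO (hAR ha)) (hinv a (hAR ha))) c hc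
    rw [map_add, mem_fx.1 hb a ha, h1]
    rfl
  have h1 := hmin _ hB
  rw [eq_bot_iff]
  intro v hv
  apply hQ
  intro w
  have hw : w ∈ pc Q (fx A) := by rw [h1]; trivial
  exact mem_pc.1 hw v hv

include hQ hp hpF hR hRO hmin in
theorem cyclic_of_min (hp2 : p ≠ 2) (hR1 : R ≠ ⊥) : IsCyclic R := by
  classical
  have : Fact p.Prime := ⟨hp⟩
  have hfin : Finite (V ≃ₗ[F] V) := finite_equiv
  by_contra hnc
  obtain ⟨A, hAn, ⟨hAc, hAp⟩, hAcard⟩ := Cfsg.Agent.S0126.result hp2 hR hnc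
  -- the image of `A`
  let A' : Subgroup (V ≃ₗ[F] V) := A.map R.subtype
  have hA'R : A' ≤ R := Subgroup.map_subtype_le A
  have hA' : ∀ (a : R), a ∈ A ↔ (a : V ≃ₗ[F] V) ∈ A' := by
    intro a
    constructor
    · intro h
      exact ⟨a, h, rfl⟩
    · rintro ⟨b, hb, h⟩
      have : b = a := Subtype.ext h
      rwa [this] at hb
  have hcard : Nat.card A' = p ^ 2 := by
    rw [← hAcard]
    exact (Nat.card_congr (A.equivMapOfInjective R.subtype R.subtype_injective).toEquiv).symm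
  have hpow : ∀ a ∈ A', a ^ p = 1 := by
    rintro _ ⟨a, ha, rfl⟩
    have := congrArg Subtype.val (hAp a ha)
    exact this
  have hcomm : ∀ a ∈ A', ∀ b ∈ A', a * b = b * a := by
    rintro _ ⟨a, ha, rfl⟩ _ ⟨b, hb, rfl⟩
    have h1 : (⟨a, ha⟩ : A) * ⟨b, hb⟩ = ⟨b, hb⟩ * ⟨a, ha⟩ := hAc.is_comm.comm _ _
    have h3 : a * b = b * a := congrArg Subtype.val h1
    exact congrArg Subtype.val h3
  have hnorm : ∀ r ∈ R, ∀ a ∈ A', r * a * r⁻¹ ∈ A' := by
    rintro r hr _ ⟨a, ha, rfl⟩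
    exact ⟨⟨r, hr⟩ * a * ⟨r, hr⟩⁻¹, hAn.conj_mem a ha ⟨r, hr⟩, rfl⟩
  have hA'1 : A' ≠ ⊥ := by
    intro h
    rw [h, Subgroup.card_bot] at hcard
    have := hp.one_lt
    have h3 : 1 < p ^ 2 := Nat.one_lt_pow (by norm_num) this
    omega
  have hbot : fx A' = ⊥ := fx_eq_bot hQ hp hpF hR hRO hmin hA'R hA'1 (fun r hr a ha => by
    have := hnorm r⁻¹ (R.inv_mem hr) a ha
    rwa [inv_inv] at this)
  have hord : ∀ a ∈ A', a ≠ 1 → Nat.card (Subgroup.zpowers a) = p := by
    intro a ha h1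
    rw [Nat.card_zpowers]
    exact orderOf_eq_prime (hpow a ha) h1
  -- two noncommensurable elements have no common fixed vectors
  have hgen : ∀ a₀ ∈ A', a₀ ≠ 1 → ∀ a₁ ∈ A', a₁ ∉ Subgroup.zpowers a₀ → ∀ v : V, a₀ v = v → a₁ v = v → v = 0 := by
    intro a₀ ha₀ h0 a₁ ha₁ h1 v hv0 hv1
    let B : Subgroup (V ≃ₗ[F] V) :=
      { carrier := {a | a ∈ A' ∧ a v = v}
        mul_mem' := fun {a b} ha hb => ⟨A'.mul_mem ha.1 hb.1, by
          show a (b v) = v
          rw [hb.2, ha.2]⟩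
        one_mem' := ⟨A'.one_mem, rfl⟩
        inv_mem' := fun {a} ha => ⟨A'.inv_mem ha.1, by
          have h3 : a⁻¹ (a v) = v := a.symm_apply_apply v
          rwa [ha.2] at h3⟩ }
    have hBA : B ≤ A' := fun a ha => ha.1
    have h0B : a₀ ∈ B := ⟨ha₀, hv0⟩
    have h1B : a₁ ∈ B := ⟨ha₁, hv1⟩
    have hdvd : Nat.card B ∣ p ^ 2 := by
      rw [← hcard]
      exact Subgroup.card_dvd_of_le hBA
    obtain ⟨k, hk, hkB⟩ := (Nat.dvd_prime_pow hp).1 hdvd
    have hzB : Subgroup.zpowers a₀ ≤ B := by rw [Subgroup.zpowers_le]; exact h0B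
    have hlt : Nat.card (Subgroup.zpowers a₀) < Nat.card B := by
      refine lt_of_le_of_ne (Nat.le_of_dvd Nat.card_pos (Subgroup.card_dvd_of_le hzB)) ?_
      intro h
      apply h1
      rw [Subgroup.eq_of_le_of_card_ge hzB h.ge]
      exact h1B
    rw [hord a₀ ha₀ h0, hkB] at hlt
    have hk2 : k = 2 := by
      have h3 : 1 < k := by
        by_contra hcon
        have h4 : p ^ k ≤ p ^ 1 := Nat.pow_le_pow_right hp.pos (by omega)
        rw [pow_one] at h4
        omega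
      omega
    rw [hk2] at hkB
    have hBe : B = A' := Subgroup.eq_of_le_of_card_ge hBA (by rw [hkB, hcard])
    have h5 : v ∈ fx A' := by
      intro a ha
      rw [← hBe] at ha
      exact ha.2
    rw [hbot] at h5
    exact h5
  have hVnt : Nontrivial V := by
    by_contra hcon
    rw [not_nontrivial_iff_subsingleton] at hcon
    apply hR1
    rw [eq_bot_iff]
    intro r _
    rw [Subgroup.mem_bot]
    ext v
    exact Subsingleton.elim _ _
  -- `A` does not act without fixed points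
  have hncA : ¬ IsCyclic A' := by
    intro hcy
    have h1 := IsCyclic.exponent_eq_card (α := A')
    rw [hcard] at h1
    have h3 : Monoid.exponent A' ∣ p := Monoid.exponent_dvd_of_forall_pow_eq_one fun a => Subtype.ext (hpow a a.2)
    rw [h1] at h3
    have h4 := Nat.le_of_dvd hp.pos h3
    have h5 := hp.one_lt
    nlinarith
  obtain ⟨a₀, ha₀, h0, v₀, hv₀, hv0⟩ : ∃ a₀ ∈ A', a₀ ≠ 1 ∧ ∃ v : V, a₀ v = v ∧ v ≠ 0 := by
    by_contra hcon
    push Not at hcon
    apply hncA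
    let φ : A' →* AddMonoid.End V :=
      { toFun := fun a => ((a : V ≃ₗ[F] V) : V →ₗ[F] V).toAddMonoidHom
        map_one' := rfl
        map_mul' := fun _ _ => rfl }
    refine Cfsg.Agent.Solvable.FpfCyclic.isCyclic_of_fpf_add
      (fun a b => Subtype.ext (hcomm a a.2 b b.2)) φ ?_
    intro a ha v hv
    exact hcon a a.2 (fun h => ha (Subtype.ext h)) v hv
  have hzA : Subgroup.zpowers a₀ ≤ A' := by rw [Subgroup.zpowers_le]; exact ha₀
  have hmemz : ∀ v : V, v ∈ fx (Subgroup.zpowers a₀) ↔ a₀ v = v := by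
    intro v
    constructor
    · intro h
      exact h a₀ (Subgroup.mem_zpowers a₀)
    · intro h a ha
      have h3 : Subgroup.zpowers a₀ ≤ MulAction.stabilizer (V ≃ₗ[F] V) v := by
        rw [Subgroup.zpowers_le]
        exact h
      exact h3 ha
  have hblk : Blk Q R (fx (Subgroup.zpowers a₀)) := by
    refine ⟨nd_fx hQ ((hzA.trans hA'R).trans hRO) (card_ne_zero hp hpF hR (hzA.trans hA'R)), ?_, ?_⟩
    · intro r hr
      set a₁ := r * a₀ * r⁻¹ with ha₁def
      have ha₁ : a₁ ∈ A' := hnorm r hr a₀ ha₀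
      by_cases hz : a₁ ∈ Subgroup.zpowers a₀
      · left
        intro u hu
        rw [hmemz] at hu ⊢
        have h11 : a₁ ≠ 1 := by
          intro h
          apply h0
          rw [ha₁def] at h
          have h3 : a₀ = r⁻¹ * (r * a₀ * r⁻¹) * r := by group
          rw [h3, h]
          group
        have hzz : Subgroup.zpowers a₁ = Subgroup.zpowers a₀ := by
          apply Subgroup.eq_of_le_of_card_ge
          · rw [Subgroup.zpowers_le]; exact hz
          · rw [hord a₀ ha₀ h0, hord a₁ ha₁ h11]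
        have h3 : a₀ ∈ Subgroup.zpowers a₁ := by rw [hzz]; exact Subgroup.mem_zpowers a₀
        obtain ⟨j, hj⟩ := h3
        have h4 : a₀ * r = r * a₀ ^ j := by
          have h5 : a₀ = r * a₀ ^ j * r⁻¹ := by
            rw [← conj_zpow]
            exact hj.symm
          nth_rewrite 1 [h5]
          group
        have h5 : (a₀ ^ j) u = u := (hmemz u).2 hu _ (Subgroup.zpow_mem_zpowers a₀ j)
        have h6 : a₀ (r u) = r ((a₀ ^ j) u) := LinearEquiv.congr_fun h4 u
        rw [h6, h5]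
      · right
        intro u hu v hv
        rw [hmemz] at hu hv
        have hz1A : Subgroup.zpowers a₁ ≤ A' := by rw [Subgroup.zpowers_le]; exact ha₁
        obtain ⟨w, hw, hw1, hw2⟩ := exists_avg (Q := Q) ((hz1A.trans hA'R).trans hRO) v
        have hw3 : w ∈ fx (Subgroup.zpowers a₀) := by
          apply hw2
          intro a ha
          rw [hmemz]
          have h3 : a₀ (a v) = a (a₀ v) := LinearEquiv.congr_fun (hcomm a₀ ha₀ a (hz1A ha)) v
          rw [h3, hv]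
        have hw0 : w = 0 := hgen a₀ ha₀ h0 a₁ ha₁ hz w ((hmemz w).1 hw3) (hw a₁ (Subgroup.mem_zpowers a₁))
        have hru : r u ∈ fx (Subgroup.zpowers a₁) := by
          intro a ha
          have h3 : Subgroup.zpowers a₁ ≤ MulAction.stabilizer (V ≃ₗ[F] V) (r u) := by
            rw [Subgroup.zpowers_le]
            show a₁ (r u) = r u
            have h4 : a₁ * r = r * a₀ := by rw [ha₁def]; group
            have h5 : a₁ (r u) = r (a₀ u) := LinearEquiv.congr_fun h4 u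
            rw [h5, hu]
          exact h3 ha
        have h3 := hw1 _ hru
        rw [hw0, polar_zero_right] at h3
        exact (mul_eq_zero.1 h3.symm).resolve_left (card_ne_zero hp hpF hR (hz1A.trans hA'R))
    · by_contra hcon
      push Not at hcon
      apply hv0
      have h3 : v₀ ∈ fx A' := by
        intro a ha
        apply hcon a (hA'R ha) _ v₀ ((hmemz v₀).2 hv₀)
        intro u hu
        rw [hmemz] at hu ⊢
        have h3 : a₀ (a u) = a (a₀ u) := LinearEquiv.congr_fun (hcomm a₀ ha₀ a ha) u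
        rw [h3, hu]
      rw [hbot] at h3
      exact h3
  have htop := hmin _ hblk
  apply h0
  ext v
  exact (hmemz v).1 (by rw [htop]; trivial)

end Min

/-- the group induced on a subspace -/
def ind (P : Subgroup (V ≃ₗ[F] V)) (U : Submodule F V) : Subgroup (U ≃ₗ[F] U) where
  carrier := {t | ∃ g ∈ P, ∀ v : U, (t v : V) = g v}
  mul_mem' {s t} := by
    rintro ⟨g, hg, hs⟩ ⟨h, hh, ht⟩
    refine ⟨g * h, P.mul_mem hg hh, fun v => ?_⟩
    show ((s (t v) : U) : V) = g (h v)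
    rw [hs, ht]
  one_mem' := ⟨1, P.one_mem, fun _ => rfl⟩
  inv_mem' {t} := by
    rintro ⟨g, hg, ht⟩
    refine ⟨g⁻¹, P.inv_mem hg, fun v => ?_⟩
    have h1 : g ((t⁻¹ v : U) : V) = v := by
      rw [← ht]
      exact congrArg Subtype.val (t.apply_symm_apply v)
    have h3 : g⁻¹ (g ((t⁻¹ v : U) : V)) = ((t⁻¹ v : U) : V) := g.symm_apply_apply _
    rw [h1] at h3
    exact h3.symm

theorem mem_ind {P : Subgroup (V ≃ₗ[F] V)} {U : Submodule F V} {t : U ≃ₗ[F] U} :
    t ∈ ind P U ↔ ∃ g ∈ P, ∀ v : U, (t v : V) = g v := Iff.rfl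

theorem ind_isPGroup {p : ℕ} {P : Subgroup (V ≃ₗ[F] V)} (hP : IsPGroup p P) (U : Submodule F V) :
    IsPGroup p (ind P U) := by
  rintro ⟨t, g, hg, ht⟩
  obtain ⟨k, hk⟩ := hP ⟨g, hg⟩
  have h1 : g ^ p ^ k = 1 := congrArg Subtype.val hk
  exact ⟨k, Subtype.ext (res_pow ht h1)⟩

theorem blk_map {Q : QuadraticForm F V} {P : Subgroup (V ≃ₗ[F] V)} [FiniteDimensional F V] {U : Submodule F V}
    (hU : Blk Q P U) {U₀ : Submodule F U} (h : Blk (Q.comp U.subtype) (ind P U) U₀) : Blk Q P (U₀.map U.subtype) := by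
  refine ⟨?_, ?_, ?_⟩
  · rintro _ ⟨u, hu, rfl⟩ h1
    exact congrArg Subtype.val (h.nd u hu fun v hv => h1 v ⟨v, hv, rfl⟩)
  · intro g hg
    rcases hU.ti g hg with h1 | h1
    · obtain ⟨t, ht⟩ := exists_res g h1
      rcases h.ti t ⟨g, hg, ht⟩ with h3 | h3
      · left
        rintro _ ⟨u, hu, rfl⟩
        exact ⟨t u, h3 u hu, ht u⟩
      · right
        rintro _ ⟨u, hu, rfl⟩ _ ⟨v, hv, rfl⟩
        have h4 : polar Q ((t u : U) : V) v = 0 := h3 u hu v hv
        rw [ht] at h4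
        exact h4
    · right
      rintro _ ⟨u, hu, rfl⟩ _ ⟨v, hv, rfl⟩
      exact h1 u u.2 v v.2
  · obtain ⟨t, ⟨g, hg, ht⟩, h1, u, hu, h3⟩ := h.nt
    refine ⟨g, hg, ?_, u, ⟨u, hu, rfl⟩, ?_⟩
    · rintro _ ⟨v, hv, rfl⟩
      exact ⟨t v, h1 v hv, ht v⟩
    · intro h4
      exact h3 (Subtype.ext (by rw [ht, h4]))

/-- the product of pairwise commuting conjugates -/
theorem transfer {G A : Type*} [Group G] [CommGroup A] (χ : G →* A) (P : Subgroup G) [Finite P] (z : G)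
    (h : ∀ g ∈ P, Commute z (g * z * g⁻¹)) :
    ∃ y : G, (∀ g ∈ P, y * g = g * y) ∧ χ y = χ z ^ Nat.card P := by
  classical
  let _ : Fintype P := Fintype.ofFinite P
  let f : P → G := fun g => g * z * (g : G)⁻¹
  have hcomm : ∀ g k : P, Commute (f g) (f k) := by
    intro g k
    have h1 := h _ (g⁻¹ * k : P).2
    have h3 := h1.map (MulAut.conj (g : G))
    rw [MulAut.conj_apply, MulAut.conj_apply] at h3
    have h4 : (g : G) * (((g⁻¹ * k : P) : G) * z * ((g⁻¹ * k : P) : G)⁻¹) * (g : G)⁻¹ = f k := by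
      simp only [f, Subgroup.coe_mul, Subgroup.coe_inv]
      group
    rw [h4] at h3
    exact h3
  have hpw : ((Finset.univ : Finset P) : Set P).Pairwise (Function.onFun Commute f) := fun _ _ _ _ _ => hcomm _ _
  refine ⟨Finset.univ.noncommProd f hpw, ?_, ?_⟩
  · intro k hk
    have h1 : MulAut.conj k (Finset.univ.noncommProd f hpw) = Finset.univ.noncommProd f hpw := by
      rw [Finset.map_noncommProd]
      have h3 : (Finset.univ : Finset P).val.map (fun i => MulAut.conj k (f i)) = (Finset.univ : Finset P).val.map f := by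
        have h4 : (fun i => MulAut.conj k (f i)) = f ∘ (Equiv.mulLeft (⟨k, hk⟩ : P)) := by
          funext i
          rw [MulAut.conj_apply]
          show k * (i * z * (i : G)⁻¹) * k⁻¹ = (k * i) * z * (k * i : G)⁻¹
          group
        rw [h4, ← Multiset.map_map, Multiset.map_univ_val_equiv]
      unfold Finset.noncommProd
      congr 1
    rw [MulAut.conj_apply, mul_inv_eq_iff_eq_mul] at h1
    exact h1.symm
  · rw [Finset.map_noncommProd, Finset.noncommProd_eq_prod]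
    have h1 : ∀ g : P, χ (f g) = χ z := by
      intro g
      simp only [f, map_mul, map_inv]
      rw [mul_comm (χ (g : G)), mul_assoc, mul_inv_cancel, mul_one]
    rw [Finset.prod_congr rfl (fun g _ => h1 g), Finset.prod_const, Finset.card_univ, Nat.card_eq_fintype_card]

/-- **Isometries of spinor sign `-1` commuting with a `p`-group of isometries.** -/
theorem exists_comm [Finite F] [Finite V] (h2 : (2 : F) ≠ 0) {Q : QuadraticForm F V} (hQ : Nondeg Q)
    {p : ℕ} (hp : p.Prime) (hp2 : p ≠ 2) (hpF : (p : F) ≠ 0) (P : Subgroup (V ≃ₗ[F] V)) (hP : IsPGroup p P)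
    (hPO : P ≤ O Q) (hP1 : P ≠ ⊥) :
    ∃ z : V ≃ₗ[F] V, El Q (-1) z ∧ ∀ g ∈ P, z * g = g * z := by
  classical
  have : Fact p.Prime := ⟨hp⟩
  have hfinE : Finite (V ≃ₗ[F] V) := finite_equiv
  have hfin : Finite (Submodule F V) := Finite.of_injective (fun U : Submodule F V => (U : Set V)) SetLike.coe_injective
  obtain ⟨U, hU, hUmin⟩ := (wellFounded_lt (α := Submodule F V)).has_min {U | Blk Q P U} ⟨⊤, blk_top hQ hP1⟩
  have hU : Blk Q P U := hU
  have hmin : ∀ U₀ : Submodule F U, Blk (Q.comp U.subtype) (ind P U) U₀ → U₀ = ⊤ := by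
    intro U₀ h0
    have h1 := hUmin _ (blk_map hU h0)
    have h3 : U₀.map U.subtype ≤ U := Submodule.map_subtype_le U U₀
    have h4 : U₀.map U.subtype = U := by
      by_contra hne
      exact h1 (lt_of_le_of_ne h3 hne)
    rw [eq_top_iff]
    intro u _
    have h5 : (u : V) ∈ U₀.map U.subtype := by rw [h4]; exact u.2
    obtain ⟨w, hw, h6⟩ := h5
    have h7 : w = u := Subtype.ext h6
    rwa [h7] at hw
  have hRO : ind P U ≤ O (Q.comp U.subtype) := by
    rintro t ⟨g, hg, ht⟩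
    exact res_mem_O (hPO hg) ht
  have hR := ind_isPGroup hP U
  obtain ⟨g₀, hg₀, hg₀U, u₀, hu₀, hgu₀⟩ := hU.nt
  have hR1 : ind P U ≠ ⊥ := by
    intro h
    obtain ⟨t, ht⟩ := exists_res g₀ hg₀U
    have h1 : t ∈ ind P U := ⟨g₀, hg₀, ht⟩
    rw [h, Subgroup.mem_bot] at h1
    apply hgu₀
    have h3 := ht ⟨u₀, hu₀⟩
    rw [h1] at h3
    exact h3.symm
  have hcyc := cyclic_of_min hU.nd.nondeg hp hpF hR hRO hmin hp2 hR1
  obtain ⟨⟨x, hxR⟩, hxg⟩ := IsCyclic.exists_generator (α := ind P U)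
  have hbot : fx (ind P U) = ⊥ := fx_eq_bot hU.nd.nondeg hp hpF hR hRO hmin le_rfl hR1
    (fun r hr a ha => (ind P U).mul_mem ((ind P U).mul_mem ((ind P U).inv_mem hr) ha) hr)
  have hgen : ∀ t ∈ ind P U, ∃ j : ℤ, x ^ j = t := by
    intro t ht
    obtain ⟨j, hj⟩ := hxg ⟨t, ht⟩
    exact ⟨j, congrArg Subtype.val hj⟩
  have hfix : ∀ v, x v = v → v = 0 := by
    intro v hv
    have h1 : v ∈ fx (ind P U) := by
      intro t ht
      obtain ⟨j, rfl⟩ := hgen t ht
      have h3 : Subgroup.zpowers x ≤ MulAction.stabilizer (U ≃ₗ[F] U) v := by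
        rw [Subgroup.zpowers_le]
        exact hv
      exact h3 (Subgroup.zpow_mem_zpowers x j)
    rw [hbot] at h1
    exact h1
  have hUnt : Nontrivial U := by
    refine ⟨⟨⟨u₀, hu₀⟩, 0, fun h => hgu₀ ?_⟩⟩
    have h1 : u₀ = 0 := congrArg Subtype.val h
    rw [h1, map_zero]
  obtain ⟨k, hk⟩ := hR ⟨x, hxR⟩
  have hxk : x ^ p ^ k = 1 := congrArg Subtype.val hk
  obtain ⟨z₀, hz₀, hz₀x⟩ := cyc h2 hU.nd.nondeg (hRO hxR) (n := p ^ k) ((hp.odd_of_ne_two hp2).pow) hxk
    (by rw [Nat.cast_pow]; exact pow_ne_zero _ hpF) hfix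
  have hz₀R : ∀ t ∈ ind P U, t * z₀ = z₀ * t := by
    intro t ht
    obtain ⟨j, rfl⟩ := hgen t ht
    exact (Commute.zpow_left hz₀x j).eq
  obtain ⟨z, hz, hz1, hz2⟩ := extend h2 hQ hU.nd hz₀
  have hzU : ∀ v ∈ U, z v ∈ U := fun v hv => by
    rw [hz1 ⟨v, hv⟩]
    exact (z₀ ⟨v, hv⟩).2
  -- `z` commutes with its conjugates
  have hcom : ∀ g ∈ P, Commute z (g * z * g⁻¹) := by
    intro g hg
    rcases hU.ti g hg with h1 | h1
    · have h3 : g * z = z * g := by
        refine comm_of_restrict hU.nd hz2 (hPO hg) h1 fun v hv => ?_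
        obtain ⟨t, ht⟩ := exists_res g h1
        rw [hz1 ⟨v, hv⟩, ← ht, ← ht ⟨v, hv⟩, hz1]
        exact congrArg Subtype.val (LinearEquiv.congr_fun (hz₀R t ⟨g, hg, ht⟩) ⟨v, hv⟩)
      rw [h3, mul_inv_cancel_right]
    · have h3 : ∀ v ∈ U, (g * z * g⁻¹) v = v := by
        intro v hv
        have h4 : g⁻¹ v ∈ pc Q U := by
          rw [mem_pc]
          intro u hu
          have h5 := h1 u hu v hv
          rw [polar_inv (hPO hg)] at h5
          exact h5
        show g (z (g⁻¹ v)) = v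
        rw [hz2 _ h4]
        exact g.apply_symm_apply v
      have h4 : g * z * g⁻¹ ∈ O Q := (O Q).mul_mem ((O Q).mul_mem (hPO hg) hz.1) ((O Q).inv_mem (hPO hg))
      exact (comm_of_restrict hU.nd hz2 h4 (fun v hv => by rw [h3 v hv]; exact hv) fun v hv => by
        rw [h3 v hv, h3 _ (hzU v hv)]).symm
  -- the transfer
  obtain ⟨hzO, hzd, hzs⟩ := hz
  let χ : O Q →* Fˣ × ℤˣ := MonoidHom.prod ((LinearEquiv.det (R := F) (M := V)).comp (O Q).subtype) (spin Q)
  obtain ⟨y, hy, hχ⟩ := transfer χ (P.subgroupOf (O Q)) ⟨z, hzO⟩ (fun g hg => Subtype.ext (hcom g hg))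
  have hodd : Odd (Nat.card (P.subgroupOf (O Q))) := by
    have h1 : Nat.card (P.subgroupOf (O Q)) = Nat.card P := Nat.card_congr (Subgroup.subgroupOfEquivOfLe hPO).toEquiv
    obtain ⟨m, hm⟩ := IsPGroup.iff_card.1 hP
    rw [h1, hm]
    exact (hp.odd_of_ne_two hp2).pow
  have hχz : χ ⟨z, hzO⟩ = (1, -1) := Prod.ext hzd hzs
  rw [hχz, Prod.pow_mk, one_pow, hodd.neg_one_pow] at hχ
  refine ⟨y, ⟨y.2, congrArg Prod.fst hχ, congrArg Prod.snd hχ⟩, fun g hg => ?_⟩
  exact congrArg Subtype.val (hy ⟨g, hPO hg⟩ hg)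

end Cfsg.Agent.H813.SpC
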